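import Cfsg.Agent.Deg.Sq
import Cfsg.Agent.Block.Ito
import Cfsg.Agent.Fgs2.Zsigmondy

/-!
Actions on an abelian group in which every non-trivial element is fixed by a unique conjugate of a
given subgroup.
-/

set_option autoImplicit false

namespace CF.Degs

open Cfsg Subgroup CF.BG CF.Clifford CF.Char CF.Fgs2.Isa MulAction
open scoped ComplexConjugate

attribute [local instance] Fintype.ofFinite

universe u v

variable {G : Type u} [Group G] {V : Type v} [CommGroup V] [MulDistribMulAction G V]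
  {p q r s : ℕ} {π : Set ℕ} {K X Y Z : Subgroup G} {W : Subgroup V}

/-- fixed points of a subgroup -/
def Fx (V : Type v) [CommGroup V] [MulDistribMulAction G V] (X : Subgroup G) : Subgroup V where
  carrier := {v | ∀ x ∈ X, x • v = v}
  one_mem' x _ := smul_one x
  mul_mem' a b x hx := by rw [smul_mul', a x hx, b x hx]
  inv_mem' a x hx := by rw [smul_inv', a x hx]

theorem mem_Fx {v : V} : v ∈ Fx V X ↔ X ≤ stabilizer G v := Iff.rfl

theorem Fx_sup : Fx V (X ⊔ Y) = Fx V X ⊓ Fx V Y := by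
  ext v
  simp only [mem_inf, mem_Fx, sup_le_iff]

theorem smul_mem_Fx {g : G} {v : V} : g • v ∈ Fx V (cj g X) ↔ v ∈ Fx V X := by
  refine ⟨fun h x hx => ?_, fun h x ⟨y, hy, e⟩ => ?_⟩
  · have := h _ (conj_mem_cj.2 hx)
    rwa [mul_smul, mul_smul, inv_smul_smul, smul_left_cancel_iff] at this
  · rw [← e]
    change (g * y * g⁻¹) • g • v = _
    rw [mul_smul, inv_smul_smul, mul_smul, h y hy]

theorem eq_one_of_smul {g : G} {v : V} (h : g • v = 1) : v = 1 := by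
  rw [← inv_smul_smul g v, h, smul_one]

/-- invariant subgroup -/
def Iv (X : Subgroup G) (W : Subgroup V) : Prop := ∀ x ∈ X, ∀ v ∈ W, x • v ∈ W

theorem iv_top : Iv X (⊤ : Subgroup V) := fun _ _ _ _ => trivial

theorem iv_Fx (h : X ≤ 𝐍 Y) : Iv X (Fx V Y) := fun x hx v hv => by
  rw [← cj_of_norm (h hx)]
  exact smul_mem_Fx.2 hv

variable [Finite G] [Finite V]

theorem card_ne_one (W : Subgroup V) : Nat.card {v // v ∈ W ∧ v ≠ 1} = ♯W - 1 := by
  have : {v | v ∈ W ∧ v ≠ 1} = (W : Set V) \ {1} := rfl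
  change Nat.card {v | v ∈ W ∧ v ≠ 1} = _
  rw [this, Nat.card_coe_set_eq, Set.ncard_sdiff_singleton_of_mem W.one_mem]
  rfl

theorem count (i : Iv (⊤ : Subgroup G) W) (a : ∀ v ∈ W, v ≠ 1 → ∃ g, v ∈ Fx V (cj g X))
    (b : ∀ v ∈ W, v ≠ 1 → ∀ g, v ∈ Fx V X → v ∈ Fx V (cj g X) → g ∈ 𝐍 X) :
    ♯W - 1 = (𝐍 X).index * (♯(W ⊓ Fx V X) - 1) := by
  rw [← card_ne_one, ← card_ne_one, index, ← Nat.card_prod]
  refine (Nat.card_congr (Equiv.ofBijective (fun x : (G ⧸ 𝐍 X) × _ => ⟨x.1.out • x.2.1,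
    i _ trivial _ x.2.2.1.1, fun w => x.2.2.2 (eq_one_of_smul w)⟩) ⟨?_, ?_⟩)).symm
  · rintro ⟨c, v, hv⟩ ⟨d, w, hw⟩ e
    have e : c.out • v = d.out • w := congrArg Subtype.val e
    have f : v = (c.out⁻¹ * d.out) • w := by rw [mul_smul, ← e, inv_smul_smul]
    have : c = d := by
      rw [← c.out_eq, ← d.out_eq]
      exact QuotientGroup.eq.2 (b v hv.1.1 hv.2 _ hv.1.2 (f ▸ smul_mem_Fx.2 hw.1.2))
    subst this
    simpa using f
  · rintro ⟨v, hv, v1⟩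
    obtain ⟨g, hg⟩ := a v hv v1
    obtain ⟨n, e⟩ := QuotientGroup.mk_out_eq_mul (𝐍 X) g
    refine ⟨⟨g, (g : G ⧸ 𝐍 X).out⁻¹ • v, ⟨i _ trivial _ hv, ?_⟩,
      fun w => v1 (eq_one_of_smul w)⟩, Subtype.ext (smul_inv_smul _ _)⟩
    refine (smul_mem_Fx (g := (g : G ⧸ 𝐍 X).out)).1 ?_
    rwa [smul_inv_smul, e, ← cj_cj, cj_of_norm n.2]

theorem card_modEq (hp : p.Prime) (k : PiGrp {p} Z) (i : Iv Z W) :
    ♯W ≡ ♯(W ⊓ Fx V Z) [MOD p] := by
  have := Fact.mk hp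
  let S : SubMulAction Z V := ⟨W, fun z _ hv => i _ z.2 _ hv⟩
  refine (IsPGroup.card_modEq_card_fixedPoints ((piGrp_iff_isPGroup hp).1 k) S).trans ?_
  rw [Nat.card_congr (β := (W ⊓ Fx V Z : Subgroup V)) ⟨fun x => ⟨x.1.1, x.1.2, fun z hz =>
    congrArg Subtype.val (x.2 ⟨z, hz⟩)⟩, fun x => ⟨⟨x.1, x.2.1⟩, fun z => Subtype.ext (x.2.2 z z.2)⟩,
    fun _ => rfl, fun _ => rfl⟩]

/-- every non-trivial element has a stabiliser with a normal Hall subgroup of the whole group -/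
def NH (G : Type u) [Group G] [MulDistribMulAction G V] (π : Set ℕ) (W : Subgroup V) : Prop :=
  ∀ v ∈ W, v ≠ 1 → ∃ X : Subgroup G, Hall π X ⊤ ∧ v ∈ Fx V X ∧ stabilizer G v ≤ 𝐍 X

theorem NH.count (h : NH G π W) (s : Group.IsSolvable G) (i : Iv (⊤ : Subgroup G) W)
    (k : Hall π X ⊤) : ♯W - 1 = (𝐍 X).index * (♯(W ⊓ Fx V X) - 1) := by
  refine Degs.count i (fun v a b => ?_) fun v a b g c d => ?_
  · obtain ⟨Y, x, y, -⟩ := h v a b
    obtain ⟨g, -, e⟩ := k.conj inferInstance x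
    exact ⟨g, e ▸ y⟩
  · obtain ⟨Y, x, y, z⟩ := h v a b
    have e : ∀ X, Hall π X ⊤ → v ∈ Fx V X → X = Y := fun X k c =>
      (x.of_le y le_top).eq_of_normal z (k.of_le c le_top)
    exact cj_eq_self.1 ((e _ (k.cj_top g) d).trans (e _ k c).symm)

omit [Finite G] in
theorem card_pow (hp : p.Prime) (k : IsPGroup p V) (W : Subgroup V) : ∃ n, ♯W = p ^ n :=
  have := Fact.mk hp
  IsPGroup.iff_card.1 (k.to_subgroup W)

theorem arith {p n a b c d : ℕ} (hp : 2 ≤ p) (h : p ^ a - 1 = n * (p ^ b - 1))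
    (k : p ^ c - 1 = n * (p ^ d - 1)) (l : b < a) (m : a < c) : False := by
  have e : ∀ i, 1 ≤ p ^ i := fun i => Nat.one_le_pow _ _ (by omega)
  have lt : ∀ {i j}, i < j → p ^ i < p ^ j := Nat.pow_lt_pow_right hp
  have := lt m
  have := e a
  have bd : b < d := by
    by_contra! w
    have := Nat.mul_le_mul_left n (Nat.sub_le_sub_right (Nat.pow_le_pow_right (n := p) (by omega) w) 1)
    omega
  zify [e] at h k
  have x : ∀ {i}, b < i → (p : ℤ) ^ (b + 1) ∣ p ^ i := fun w => pow_dvd_pow _ w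
  have y : (p : ℤ) ^ (b + 1) ∣ n - 1 := by
    rw [show (n : ℤ) - 1 = n * p ^ d - p ^ c by linear_combination k]
    exact ((x bd).mul_left _).sub (x (l.trans m))
  have z : (p : ℤ) ^ (b + 1) ∣ p ^ b := by
    rw [show (p : ℤ) ^ b = p ^ a + (n - 1) - (n - 1) * p ^ b by linear_combination -h]
    exact ((x l).add y).sub (y.mul_right _)
  have := Int.le_of_dvd (by positivity) z
  have := lt b.lt_add_one
  zify at this
  omega

/-- If every irreducible character is fixed by `x` or by `y` then so is every class. -/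
theorem conj_or [K.Normal] {x y : G} (c : x * y = y * x) (h : ∀ θ, IsIrrCharacter K θ →
    x ∈ (NormalEmb.sub K).inertia θ ∨ y ∈ (NormalEmb.sub K).inertia θ) (g : K) :
    IsConj ((NormalEmb.sub K).c x g) g ∨ IsConj ((NormalEmb.sub K).c y g) g := by
  set E := NormalEmb.sub K
  by_contra! w
  have e : ∑ θ : IrrCharacter K, ((θ : K → ℂ) (E.c x (E.c y g)) * conj ((θ : K → ℂ) g) +
      (θ : K → ℂ) g * conj ((θ : K → ℂ) g)) = ∑ θ : IrrCharacter K,
      ((θ : K → ℂ) (E.c x g) * conj ((θ : K → ℂ) g) +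
        (θ : K → ℂ) (E.c y g) * conj ((θ : K → ℂ) g)) := Finset.sum_congr rfl fun θ _ => by
    obtain a | a := h θ θ.2 <;> rw [NormalEmb.mem_inertia'] at a
    · rw [a, a, add_comm]
    · rw [← E.c_mul, c, E.c_mul, a, a]
  rw [Finset.sum_add_distrib, Finset.sum_add_distrib, sum_irr_mul_conj_of_not_isConj w.1,
    sum_irr_mul_conj_of_not_isConj w.2, sum_irr_mul_conj_of_isConj (IsConj.refl g),
    sum_irr_mul_conj] at e
  split_ifs at e <;> norm_cast at e <;> have := card_pos' (𝐂₁ g) <;>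
    have := card_pos' (𝐂₁ (E.c x (E.c y g))) <;> omega

theorem le_of_not_dvd {I P Q : Subgroup G} (l : P ≤ I) (n : Q ≤ 𝐍 P) [(P ⊔ Q).Normal]
    (hq : q.Prime) (k : PiGrp {q} Q) (h : ¬ q ∣ I.index) : Q ≤ I :=
  k.le_of_relIndex' ((piNat_compl_single hq).2 fun w => h (w.trans (by
    rw [← relIndex_sup_of_le l n]; exact relIndex_dvd_index)))

theorem exists_inertia_dvd [K.Normal] {θ : K → ℂ} (h : IsIrrCharacter K θ) {t : ℕ} (e : θ 1 = t) :
    ∃ d ∈ 𝐜𝐝 G, ((NormalEmb.sub K).inertia θ).index * t ∣ d :=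
  let ⟨d, k⟩ := exists_Kd h
  ⟨d, Kd.cd k, k.dvd h e⟩

theorem le_inertia_self [K.Normal] {θ : K → ℂ} (h : IsIrrCharacter K θ) :
    K ≤ (NormalEmb.sub K).inertia θ := fun v hv =>
  (NormalEmb.sub K).ι_mem_inertia (irr_isClassFunction h) ⟨v, hv⟩

/-- Ito's theorem -/
theorem ito (s : Group.IsSolvable G) (hp : p.Prime) (h : ∀ d ∈ 𝐜𝐝 G, ¬ p ∣ d) :
    ∃ P : Subgroup G, Syl p P ⊤ ∧ P.Normal ∧ Abel P := by
  have := Fact.mk hp
  obtain ⟨P⟩ : Nonempty (Sylow p G) := inferInstance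
  obtain ⟨a, b⟩ := (Block.ito_iff (Solv.isPSolvable_of_isSolvable (G := G) p) P).2
    fun χ => h _ ⟨χ, rfl⟩
  exact ⟨P, syl_sylow_top P, a, fun x hx y hy => b y hy x hx⟩

/-- stabilisers have index and degrees prime to `q` -/
def NA (G : Type u) [Group G] [MulDistribMulAction G V] (q : ℕ) (v : V) : Prop :=
  ¬ q ∣ (stabilizer G v).index ∧ ∀ d ∈ 𝐜𝐝 (stabilizer G v), ¬ q ∣ d

omit [Finite V] in
theorem NA.syl {v : V} (h : NA G q v) (s : Group.IsSolvable G) (hq : q.Prime) :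
    ∃ X : Subgroup G, (Syl q X ⊤ ∧ v ∈ Fx V X ∧ stabilizer G v ≤ 𝐍 X) ∧ Abel X := by
  obtain ⟨P, a, b, c⟩ := ito inferInstance hq h.2
  have d := a.map (stabilizer G v).subtype
  have e := (normalIn_top.2 b).norm
  rw [← map_norm_iff (stabilizer G v).subtype_injective] at e
  rw [← MonoidHom.range_eq_map, range_subtype] at d e
  exact ⟨_, ⟨d.trans_idx le_top ((piNat_compl_single hq).2 (by rw [relIndex_top_right]; exact h.1)),
    d.le, e⟩, c.map _⟩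

/-- no degree is divisible by both -/
def NE (G : Type*) [Group G] (q r : ℕ) : Prop := ∀ d ∈ 𝐜𝐝 G, q ∣ d → ¬ r ∣ d

omit [Finite G] in
theorem NE.symm (h : NE G q r) : NE G r q := fun d a b c => h d a c b

theorem two_six {a c n r : ℕ} (hr : r.Prime) (h : 2 ^ a ≡ 2 ^ c [MOD r]) (l : c < a) (m : a < 6)
    (c0 : 0 < c) (x : 2 ^ a - 1 ∣ 63) (y : 63 = n * (2 ^ c - 1)) (z : ¬ r ∣ n) : r = 2 := by
  have h := (Nat.modEq_iff_dvd' (Nat.pow_le_pow_right two_pos l.le)).1 h.symm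
  have : r ∣ 12 ∧ 3 ∣ n := by
    interval_cases a <;> interval_cases c <;> simp at x y h <;> refine ⟨h.trans (by decide), by omega⟩
  have := Nat.le_of_dvd (by decide) this.1
  interval_cases r <;> simp_all (config := {decide := true})

theorem lemA (s : Group.IsSolvable G) (hp : p.Prime) (k : IsPGroup p V) (hq : q.Prime)
    (hr : r.Prime) (qr : q ≠ r) (a : ∀ v : V, v ≠ 1 → NA G q v) (b : ∀ v : V, v ≠ 1 → NA G r v)
    (e : NE G q r) {v : V} (v1 : v ≠ 1) : (∃ Q : Subgroup G, Syl q Q ⊤ ∧ Fx V Q = ⊤) ∨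
      ∃ R : Subgroup G, Syl r R ⊤ ∧ Fx V R = ⊤ := by
  have T : ∀ v : V, v ≠ 1 → ∃ Q R : Subgroup G, Syl q Q ⊤ ∧ Syl r R ⊤ ∧ Abel (Q ⊔ R) ∧
      Hall ({q} ∪ {r}) (Q ⊔ R) ⊤ ∧ v ∈ Fx V (Q ⊔ R) ∧ stabilizer G v ≤ 𝐍 (Q ⊔ R) := fun v h => by
    obtain ⟨Q, ⟨x, y, z⟩, w⟩ := (a v h).syl s hq
    obtain ⟨R, ⟨x', y', z'⟩, w'⟩ := (b v h).syl s hr
    rw [mem_Fx] at y y'
    have c : Q ≤ 𝐂 R := cent_of_inf_eq_bot (y.trans z') (y'.trans z)
      (x.pi.inf_eq_bot (x'.pi.of_single_ne qr.symm))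
    exact ⟨Q, R, x, x', sup_le (le_cent_sup w c) (le_cent_sup (cent_symm c) w'),
      x.union_sup x' (.inl (y.trans z')), mem_Fx.2 (sup_le y y'), norm_sup z z'⟩
  obtain ⟨Q, R, sQ, sR, aT, hT, vT, nT⟩ := T v v1
  by_contra! w
  have wQ := w.1 Q sQ
  have wR := w.2 R sR
  set π : Set ℕ := {q} ∪ {r}
  set K := 𝐎 πᶜ (⊤ : Subgroup G)
  have := normalIn_top.1 (O_normal πᶜ (⊤ : Subgroup G))
  have nK : ∀ X : Subgroup G, X ≤ 𝐍 K := fun X => le_top.trans (O_normal _ _).norm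
  have kK := O_pi πᶜ (⊤ : Subgroup G)
  have lT : Q ⊔ R ≤ O2 πᶜ π ⊤ := le_trans (le_inf le_top (aT.trans (cent_anti inf_le_left)))
    (Sol.cent_le_O2 inferInstance hT.inf_O2)
  have eT := (hT.of_le lT le_top).O_sup_eq
  have A : ∀ ρ X, ρ ⊆ π → Hall ρ X ⊤ → X ≤ Q ⊔ R → (K ⊔ X).Normal ∧
      (𝐍 X).index = (𝐂 X).relIndex K := fun ρ X l h m => by
    have l' := (sup_le_sup_left m K).trans eT.le
    have : (K ⊔ X).Normal := normalIn_top.1 ⟨le_top, (O2_normal πᶜ π ⊤).norm.trans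
      (((hall_O_O2 π ⊤).union_sup (h.of_le (le_sup_right.trans l') le_top) (.inr (nK X))).norm_le_norm
        (norm_of_der_le l' (eT ▸ (der_le_sup' ⟨le_sup_left, nK _⟩ rfl).trans
          (sup_le le_sup_left ((der_eq_bot.2 aT).le.trans bot_le)))))⟩
    refine ⟨this, ?_⟩
    have f := (h.of_le le_sup_right le_top).frattini_sup inferInstance (normalIn_top.2 this)
    rw [top_inf_eq, sup_assoc, sup_eq_right.2 (le_norm_self X)] at f
    rw [← relIndex_top_right, ← f, relIndex_sup_norm (.inr (nK _)), ← inf_relIndex_left,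
      inf_norm_eq_inf_cent (nK X) ((h.pi.mono l).inf_eq_bot kK), inf_relIndex_left]
  obtain ⟨_, iQ⟩ := A _ Q Set.subset_union_left sQ le_sup_left
  obtain ⟨_, iR⟩ := A _ R Set.subset_union_right sR le_sup_right
  obtain ⟨-, iT⟩ := A _ _ le_rfl hT le_rfl
  have cQ := NH.count (W := ⊤) (fun v _ h => let ⟨X, x, _⟩ := (a v h).syl s hq; ⟨X, x⟩) s iv_top sQ
  have cR := NH.count (W := ⊤) (fun v _ h => let ⟨X, x, _⟩ := (b v h).syl s hr; ⟨X, x⟩) s iv_top sR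
  have cT := NH.count (W := ⊤) (fun v _ h => let ⟨_, _, _, _, _, x⟩ := T v h; ⟨_, x⟩) s iv_top hT
  rw [top_inf_eq] at cQ cR cT
  rw [iQ] at cQ
  rw [iR] at cR
  rw [iT] at cT
  have QR : Q ≤ 𝐂 R := cent_mono aT le_sup_left le_sup_right
  have B : ∀ g ∈ K, ∃ x ∈ K, x * g * x⁻¹ ∈ 𝐂 Q ∨ x * g * x⁻¹ ∈ 𝐂 R := fun g hg => by
    have f : ∀ X, X ≤ Q ⊔ R → (∀ x ∈ X, IsConj ((NormalEmb.sub K).c x ⟨g, hg⟩) ⟨g, hg⟩) →
        ∃ x ∈ K, x * g * x⁻¹ ∈ 𝐂 X := fun X l h =>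
      Coprime.exists_conj_mem_centralizer X K (nK X) ((hT.pi.le l).coprime kK) (.inl inferInstance)
        g fun x hx => let ⟨c, hc⟩ := isConj_iff.1 (h x hx).symm; ⟨c, c.2, congrArg Subtype.val hc⟩
    by_cases y : ∀ x ∈ Q, IsConj ((NormalEmb.sub K).c x ⟨g, hg⟩) ⟨g, hg⟩
    · obtain ⟨x, hx, z⟩ := f Q le_sup_left y
      exact ⟨x, hx, .inl z⟩
    push Not at y
    obtain ⟨x, hx, y⟩ := y
    obtain ⟨x, hx, z⟩ := f R le_sup_right fun z hz => (conj_or (QR hx z hz).symm (fun θ hθ => by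
      obtain ⟨t, -, ht⟩ := exists_cd hθ
      obtain ⟨d, hd, u⟩ := exists_inertia_dvd hθ ht
      by_cases y : q ∣ d
      · exact .inr (le_of_not_dvd (le_inertia_self hθ) (nK R) hr sR.pi
          (fun w => e d hd y ((w.mul_right _).trans u)) hz)
      · exact .inl (le_of_not_dvd (le_inertia_self hθ) (nK Q) hq sQ.pi
          (fun w => y ((w.mul_right _).trans u)) hx)) _).resolve_left y
    exact ⟨x, hx, .inr z⟩
  obtain ⟨n, hn⟩ := card_pow hp k ⊤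
  obtain ⟨i, hi⟩ := card_pow hp k (Fx V Q)
  obtain ⟨j, hj⟩ := card_pow hp k (Fx V R)
  obtain ⟨c, hc⟩ := card_pow hp k (Fx V (Q ⊔ R))
  have lt : ∀ {U W : Subgroup V} {i j}, U < W → ♯U = p ^ i → ♯W = p ^ j → i < j := fun l x y =>
    (Nat.pow_lt_pow_iff_right hp.one_lt).1 (x ▸ y ▸ card_lt l)
  have c0 : 0 < c := lt (bot_lt_iff_ne_bot.2 fun w => v1 (mem_bot.1 (w ▸ vT))) (by simp) hc
  have C : ∀ X Y : Subgroup G, X ⊔ Y = Q ⊔ R → (∀ g ∈ K, ∃ x ∈ K, x * g * x⁻¹ ∈ 𝐂 X ∨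
      x * g * x⁻¹ ∈ 𝐂 Y) → ♯(⊤ : Subgroup V) - 1 = (𝐂 X).relIndex K * (♯(Fx V X) - 1) →
      ♯(⊤ : Subgroup V) - 1 = (𝐂 Y).relIndex K * (♯(Fx V Y) - 1) → Fx V Y ≠ ⊤ →
      Fx V (Q ⊔ R) < Fx V X := fun X Y e f x y z => by
    refine lt_of_le_of_ne (by rw [← e, Fx_sup]; exact inf_le_left) fun w => z ?_
    rw [← w, cT] at x
    have x := Nat.eq_of_mul_eq_mul_right (by
      have := Nat.one_lt_pow c0.ne' hp.one_lt; omega) x
    rw [← inf_relIndex_left, ← inf_relIndex_left K (𝐂 X)] at x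
    have l : K ⊓ 𝐂 (Q ⊔ R) ≤ K ⊓ 𝐂 X := inf_le_inf_left _ (cent_anti (e ▸ le_sup_left))
    have x : K ⊓ 𝐂 X ≤ 𝐂 Y := by
      have := relIndex_mul_relIndex _ _ _ l inf_le_left
      rw [x] at this
      exact (relIndex_eq_one.1 (Nat.eq_of_mul_eq_mul_right (relIndex_pos _ _)
        (this.trans (one_mul _).symm))).trans (inf_le_right.trans (cent_anti (e ▸ le_sup_right)))
    have : (𝐂 Y).subgroupOf K = ⊤ := Block.eq_top_of_forall_conj _ fun g =>
      let ⟨a, ha, b⟩ := f g g.2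
      ⟨⟨a, ha⟩, b.elim (fun b => x ⟨K.mul_mem (K.mul_mem ha g.2) (K.inv_mem ha), b⟩) id⟩
    rw [relIndex_eq_one.2 (subgroupOf_eq_top.1 this), one_mul] at y
    have := card_pos' (Fx V Y)
    have := card_pos' (⊤ : Subgroup V)
    exact eq_of_le_of_card_ge le_top (by omega)
  have ci := lt (C Q R rfl B cQ cR wR) hc hi
  have cj := lt (C R Q (sup_comm _ _) (fun g hg => let ⟨x, y, z⟩ := B g hg; ⟨x, y, z.symm⟩)
    cR cQ wQ) hc hj
  have i_n := lt (lt_top_iff_ne_top.2 wQ) hi hn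
  have jn := lt (lt_top_iff_ne_top.2 wR) hj hn
  rw [hn, hi] at cQ
  rw [hn, hj] at cR
  rw [hn, hc] at cT
  by_cases z : p = 2 ∧ n = 6
  · obtain ⟨rfl, rfl⟩ := z
    have x := card_modEq hr sR.pi (iv_Fx (V := V) (norm_of_cent (cent_symm QR)))
    have y := card_modEq hq sQ.pi (iv_Fx (V := V) (norm_of_cent QR))
    rw [inf_comm] at y
    rw [← Fx_sup, hc] at x y
    exact qr ((two_six hq (hj ▸ y) cj jn c0 (Dvd.intro_left _ cR.symm) cT
      ((kK.relIndex _).not_dvd' hq (.inl rfl))).trans (two_six hr (hi ▸ x) ci i_n c0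
        (Dvd.intro_left _ cQ.symm) cT ((kK.relIndex _).not_dvd' hr (.inr rfl))).symm)
  obtain ⟨t, ht, t1, t2⟩ := Fgs2.zsigmondy hp.two_le (by omega) z (by omega)
  obtain ⟨S, sS⟩ := exists_syl t K
  obtain ⟨g, hg, u, hu⟩ : ∃ g ∈ S, ∃ u : V, g • u ≠ u := by
    by_contra! w
    refine t2 c c0 (by omega) (((Nat.Prime.dvd_mul ht).1 (cT ▸ t1)).resolve_left fun y =>
      sS.not_dvd ht (y.trans (relIndex_dvd_of_le_left K ?_)))
    exact (le_inf sS.le (le_trans (fun g hg => w g hg v) nT)).trans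
      (inf_norm_le_cent (nK _) (hT.pi.inf_eq_bot kK))
  obtain ⟨x, -, y⟩ := B g (sS.le hg)
  have kZ : PiGrp {t} (zpowers (x * g * x⁻¹)) := by
    rw [← cj_zpowers]; exact (sS.pi.le (zpowers_le.2 hg)).cj x
  have m := card_modEq ht kZ (iv_top (V := V))
  obtain ⟨l, hl⟩ := card_pow hp k (Fx V (zpowers (x * g * x⁻¹)))
  have ln := lt (lt_top_iff_ne_top.2 fun w => hu (smul_mem_Fx (g := x).1
    (by rw [cj_zpowers, w]; trivial) g (mem_zpowers g))) hl hn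
  rw [top_inf_eq, hn, hl] at m
  have l0 : l = 0 := by
    by_contra w
    have := (Nat.modEq_iff_dvd' (Nat.pow_le_pow_right hp.pos ln.le)).1 m.symm
    rw [← Nat.sub_add_cancel ln.le, pow_add, ← Nat.sub_one_mul] at this
    refine t2 (n - l) (by omega) (by omega) (((Nat.Prime.dvd_mul ht).1 this).resolve_right fun w => ?_)
    have := (Nat.dvd_sub_iff_right (Nat.one_le_pow _ _ hp.pos)
      ((ht.dvd_of_dvd_pow w).trans (dvd_pow_self p (n := n) (by omega)))).1 t1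
    exact ht.ne_one (Nat.dvd_one.1 this)
  rw [l0, pow_zero, card_eq_one] at hl
  have D : ∀ X i, x * g * x⁻¹ ∈ 𝐂 X → ♯(Fx V X) = p ^ i → c < i → i < n → False :=
    fun X i y hi ci i_n => by
    have m := card_modEq ht kZ (iv_Fx (V := V) (norm_of_cent (zpowers_le.2 y)))
    rw [hl, inf_bot_eq, card_bot, hi] at m
    exact t2 i (by omega) i_n ((Nat.modEq_iff_dvd' (Nat.one_le_pow _ _ hp.pos)).1 m.symm)
  exact y.elim (fun y => D Q i y hi ci i_n) fun y => D R j y hj cj jn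

end CF.Degs
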