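import Cfsg.Agent.Deg.Pal1
import Cfsg.Agent.Clifford.GlaubApp

/-!
Palfy's three primes theorem.
-/

set_option autoImplicit false

namespace CF.Degs

open Cfsg Subgroup CF.BG CF.Clifford CF.Char CF.Fgs2.Isa MulAction
open scoped commutatorElement

attribute [local instance] Fintype.ofFinite linAct

universe u v

variable {G : Type u} [Group G] [Finite G] {d p q r s t : ℕ} {A H M N P Q T W X : Subgroup G}

omit [Finite G] in
theorem exists_proj [N.Normal] (h : SDProd N H ⊤) : ∃ f : G →* H, (∀ x, x * (f x : G)⁻¹ ∈ N) ∧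
    (∀ x : H, f x = x) ∧ ∀ x ∈ N, f x = 1 := by
  have e := h.isComplement'.symm.QuotientMulEquiv
  let e := h.isComplement'.symm.QuotientMulEquiv
  have a : ∀ x : H, e (x : G) = x := fun x => by
    rw [← e.eq_symm_apply]; rfl
  refine ⟨e.toMonoidHom.comp (QuotientGroup.mk' N), fun x => ?_, a, fun x hx => ?_⟩
  · have : ((e (x : G ⧸ N) : G) : G ⧸ N) = x := e.symm_apply_apply _
    rw [← div_eq_mul_inv, ← QuotientGroup.eq_iff_div_mem]
    exact this.symm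
  · change e (x : G ⧸ N) = 1
    rw [(QuotientGroup.eq_one_iff x).2 hx, map_one]

theorem cd_compl [N.Normal] (h : SDProd N H ⊤) : 𝐜𝐝 H ⊆ 𝐜𝐝 G :=
  let ⟨f, _, a, _⟩ := exists_proj h
  cd_subset_of_surj f fun x => ⟨x, a x⟩

theorem idx_sd (h : SDProd N H ⊤) (l : N ≤ T) : (T.subgroupOf H).index = T.index := by
  rw [← relIndex_top_right, ← relIndex_top_right, ← h.sup, relIndex_sup_of_le l h.norm,
    relIndex_top_right]
  rfl

theorem sd_char [N.Normal] (h : SDProd N H ⊤) (l : N ≤ T) (hd : d ∈ 𝐜𝐝 (T.subgroupOf H)) :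
    ∃ β : T → ℂ, IsIrrCharacter T β ∧ N.subgroupOf T ≤ charKer β ∧ β 1 = d := by
  obtain ⟨f, a, b, c⟩ := exists_proj h
  obtain ⟨β, x, y⟩ := mem_cd.1 hd
  let g : T →* T.subgroupOf H := (f.comp T.subtype).codRestrict _ fun x => by
    simpa [mem_subgroupOf] using T.mul_mem (T.inv_mem (l (a x))) x.2
  refine ⟨fun x => β (g x), (irr_comp_iff_of_surjective (irr_isCharacter x) g fun z =>
    ⟨⟨z.1, z.2⟩, Subtype.ext (b _)⟩).2 x, le_trans (fun z hz => Subtype.ext (c _ hz))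
      (ker_le_charKer_comp β g), by simp [y]⟩

theorem cop_mul [N.Normal] (h : SDProd N H ⊤) (c : (♯N).Coprime (♯H)) {θ : N → ℂ}
    (hθ : IsIrrCharacter N θ) (e : θ 1 = t)
    (hd : d ∈ 𝐜𝐝 (((NormalEmb.sub N).inertia θ).subgroupOf H)) :
    (((NormalEmb.sub N).inertia θ).subgroupOf H).index * (d * t) ∈ 𝐜𝐝 G := by
  have l := le_inertia_self hθ
  obtain ⟨β, x, y, z⟩ := sd_char h l hd
  obtain ⟨η, a, b⟩ := ((NormalEmb.sub N).restrict _ fun n => l n.2).exists_ext_of_coprime_card hθ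
    (fun g => congrFun g.2) (by
      rw [NormalEmb.index_restrict_sub]
      exact (c.symm.coprime_dvd_left ((relIndex_dvd_of_norm le_top
        (normalIn_top.2 ‹_›).norm).trans h.relIndex_left.dvd)))
  obtain ⟨χ, u, -, w⟩ := exists_over_mul (NormalEmb.sub N) hθ le_rfl (fun n => l n.2)
    (irr_isCharacter a) b x fun n => (mem_charKer_iff (irr_isCharacter x)).1 (y n.2)
  exact cd_of_irr u (by rw [w, z, e, idx_sd h l]; push_cast; rfl)

omit [Finite G] in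
theorem stab_sub [M.Normal] (H : Subgroup G) (μ : M →* ℂˣ) :
    stabilizer H μ = (Il M μ).subgroupOf H := by
  rw [← stab_linAct]
  rfl

omit [Finite G] in
theorem mem_Fx_lin [M.Normal] {X : Subgroup H} {μ : M →* ℂˣ} :
    μ ∈ Fx (M →* ℂˣ) X ↔ X.map H.subtype ≤ Il M μ := by
  rw [mem_Fx, stab_sub, map_le_iff_le_comap]
  rfl

omit [Finite G] in
theorem mem_Fx_lin' [M.Normal] {μ : M →* ℂˣ} : μ ∈ Fx (M →* ℂˣ) X ↔ X ≤ Il M μ := by
  rw [mem_Fx, stab_linAct]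

theorem pgroup_lin (hp : p.Prime) (k : PiGrp {p} X) : IsPGroup p (X →* ℂˣ) := fun μ => by
  obtain ⟨n, e⟩ := PiNat.exists_pow k (card_pos' X).ne'
  exact ⟨n, MonoidHom.ext fun x => by rw [MonoidHom.pow_apply, ← map_pow, ← e, pow_card_eq_one',
    map_one, MonoidHom.one_apply]⟩

theorem NA.normal {V : Type v} [CommGroup V] [MulDistribMulAction G V] {v : V} (h : NA G q v)
    (s : Group.IsSolvable G) (hq : q.Prime) (k : Syl q Q ⊤) (e : Fx V Q = ⊤) :
    ⊤ ≤ 𝐍 Q ∧ Abel Q := by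
  obtain ⟨Y, ⟨x, y, z⟩, w⟩ := h.syl s hq
  have f : ∀ g, cj g Q = Y := fun g => (x.of_le y le_top).eq_of_normal z
    ((k.cj_top g).of_le (mem_Fx.1 (by
      rw [← smul_inv_smul g v, smul_mem_Fx, e]; trivial)) le_top)
  have := f 1
  rw [cj_one] at this
  exact ⟨fun g _ => cj_eq_self.1 ((f g).trans this.symm), this ▸ w⟩

theorem NA.of_mul [M.Normal] {μ : M →* ℂˣ} (e : NE G p q) (h : ∀ d ∈ 𝐜𝐝 ((Il M μ).subgroupOf H),
    ∃ e ∈ 𝐜𝐝 G, p ∣ e ∧ ((Il M μ).subgroupOf H).index * d ∣ e) : NA H q μ := by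
  rw [NA, stab_sub]
  exact ⟨fun w => let ⟨c, x, y, z⟩ := h 1 one_mem_cd; e c x y ((w.mul_right _).trans z),
    fun d hd w => let ⟨c, x, y, z⟩ := h d hd; e c x y ((w.mul_left _).trans z)⟩

/-- a normal abelian Sylow subgroup centralizing `M` -/
def Triv (M H : Subgroup G) (q : ℕ) : Prop := ∃ Q, Syl q Q H ∧ Q ≤ 𝐂 M ∧ H ≤ 𝐍 Q ∧ Abel Q

theorem triv_of [M.Normal] (o : Group.IsSolvable G) (a : Abel M) (hq : q.Prime) {μ : M →* ℂˣ}
    (h : NA H q μ) {Q : Subgroup H} (k : Syl q Q ⊤) (e : Fx (M →* ℂˣ) Q = ⊤) :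
    Syl q (Q.map H.subtype) H ∧ Q.map H.subtype ≤ 𝐂 M ∧ H ≤ 𝐍 (Q.map H.subtype) ∧
      Abel (Q.map H.subtype) := by
  obtain ⟨x, y⟩ := h.normal inferInstance hq k e
  have d := k.map H.subtype
  rw [← map_norm_iff H.subtype_injective] at x
  rw [← MonoidHom.range_eq_map, range_subtype] at d x
  exact ⟨d, le_cent_of_Il a fun μ => mem_Fx_lin.1 (e ▸ trivial), x, y.map _⟩

theorem triv_or [M.Normal] [N.Normal] (o : Group.IsSolvable G) (hs : s.Prime) (ab : Abelem s M)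
    (m1 : M ≠ ⊥) (sd : SDProd N H ⊤) (hq : q.Prime) (hr : r.Prime) (qr : q ≠ r)
    (a : ∀ μ : M →* ℂˣ, μ ≠ 1 → NA H q μ) (b : ∀ μ : M →* ℂˣ, μ ≠ 1 → NA H r μ) (e : NE G q r) :
    Triv M H q ∨ Triv M H r := by
  obtain ⟨μ, -, m⟩ := exists_lin_of_lt ab.abel (W := ⊥) (by simpa using m1)
  obtain ⟨Q, x, y⟩ | ⟨Q, x, y⟩ := lemA inferInstance hs (pgroup_lin hs ab.pi) hq hr qr a b
    (fun d hd => e d (cd_compl sd hd)) m
  · exact .inl ⟨_, triv_of o ab.abel hq (a μ m) x y⟩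
  · exact .inr ⟨_, triv_of o ab.abel hr (b μ m) x y⟩

/-- `q` divides a degree -/
def Act (G : Type*) [Group G] (q : ℕ) : Prop := ∃ d ∈ 𝐜𝐝 G, q ∣ d

theorem Act.dvd (h : Act G q) [A.Normal] (a : Abel A) : q ∣ A.index :=
  let ⟨_, x, y⟩ := h
  y.trans (cd_dvd_index a x)

theorem Act.not_syl (h : Act G q) (hq : q.Prime) (k : Syl q A ⊤) (n : ⊤ ≤ 𝐍 A) : ¬ Abel A :=
  fun a => have := normalIn_top.1 ⟨le_top, n⟩
  k.not_dvd hq (by rw [relIndex_top_right]; exact h.dvd a)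

theorem exists_lin_ne (k : ⁅P, P⁆ ≤ W) {x : P} (h : x.1 ∉ W) :
    ∃ μ : P →* ℂˣ, W.subgroupOf P ≤ μ.ker ∧ μ x ≠ 1 := by
  have l : commutator P ≤ W.subgroupOf P := by
    rw [commutator_def, ← subgroupOf_self, ← subgroupOf_comm le_rfl le_rfl]
    exact subgroupOf_mono P k
  have := normal_of_der_le l
  obtain ⟨χ, a, y, z⟩ := exists_irr_le_charKer_not_mem (W.subgroupOf P) (g := x) h
  obtain ⟨μ, rfl⟩ := exists_linear_of_one (irr_isCharacter a) ((irr_one_eq_one_iff a).2 (l.trans y))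
  rw [charKer_linear] at y z
  exact ⟨μ, y, z⟩

/-- linear characters trivial on `X` -/
def Ann (P X : Subgroup G) : Subgroup (P →* ℂˣ) where
  carrier := {β | X.subgroupOf P ≤ β.ker}
  one_mem' _ _ := rfl
  mul_mem' a b x hx := by
    rw [MonoidHom.mem_ker, MonoidHom.mul_apply, a hx, b hx, one_mul]
  inv_mem' a x hx := by rw [MonoidHom.mem_ker, MonoidHom.inv_apply, a hx, inv_one]

omit [Finite G] in
theorem iv_Ann [P.Normal] (h : H ≤ 𝐍 X) : Iv (⊤ : Subgroup H) (Ann P X) := fun g _ _ hβ _ hx =>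
  hβ (conj_mem_of_norm (h (H.inv_mem g.2)) hx)

theorem dvd_of_pi (hp : p.Prime) (k : PiGrp {p} P) (h : t ∈ 𝐜𝐝 P) (t1 : t ≠ 1) : p ∣ t := by
  obtain ⟨n, rfl⟩ := cd_pow_of_isPGroup hp k.isPGroup h
  exact dvd_pow_self _ fun w => t1 (by rw [w, pow_zero])

omit [Finite G] in
theorem mem_der_sub {x : P} (h : x ∈ commutator P) : x.1 ∈ ⁅P, P⁆ := by
  rw [commutator_def, ← subgroupOf_self, ← subgroupOf_comm le_rfl le_rfl] at h
  exact h

omit [Finite G] in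
theorem mem_der_sub' {x : P} (h : x.1 ∈ ⁅P, P⁆) : x ∈ commutator P := by
  rwa [commutator_def, ← subgroupOf_self, ← subgroupOf_comm le_rfl le_rfl]

/-- the commutator map in a group of class two -/
def brk (c : P ≤ 𝐂 ⁅P, P⁆) (a : P) : P →* (⁅P, P⁆ : Subgroup G) :=
  MonoidHom.mk' (fun y => ⟨⁅a.1, y.1⁆, commutator_mem_commutator a.2 y.2⟩) fun y z =>
    Subtype.ext (by
      have := c y.2 _ (commutator_mem_commutator a.2 z.2)
      simp only [coe_mul, commutatorElement_def] at this ⊢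
      rw [show a.1 * (y * z) * a.1⁻¹ * (y.1 * z)⁻¹ = a * y * a.1⁻¹ * y.1⁻¹ *
        (y * (a * z * a.1⁻¹ * z.1⁻¹)) * y.1⁻¹ by group, ← this]
      group)

theorem over_central [P.Normal] (c : P ≤ 𝐂 ⁅P, P⁆) {μ : (⁅P, P⁆ : Subgroup G) →* ℂˣ} (m : μ ≠ 1)
    {θ : P → ℂ} (h : IsIrrCharacter P θ)
    (o : classInner (fun n : (⁅P, P⁆ : Subgroup G) => θ ⟨n, der_le P n.2⟩) (fun n => μ n) ≠ 0) :
    θ 1 ≠ 1 ∧ ∀ n : (⁅P, P⁆ : Subgroup G), θ ⟨n, der_le P n.2⟩ = μ n * θ 1 := by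
  have e : ∀ n : (⁅P, P⁆ : Subgroup G), θ ⟨n, der_le P n.2⟩ = μ n * θ 1 := fun n => by
    have := scalar_of_inner (inclusion (der_le P)) (fun z => mem_center_iff.2 fun g =>
      Subtype.ext (c g.2 z z.2).symm) h o n 1
    rwa [mul_one] at this
  refine ⟨fun w => m (MonoidHom.ext fun n => Units.ext ?_), e⟩
  have := (mem_charKer_iff (irr_isCharacter h)).1
    ((irr_one_eq_one_iff h).1 w (mem_der_sub' (P := P) (x := ⟨n, der_le P n.2⟩) n.2))
  simpa [e, w] using this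

/-- If `Q` fixes all non-linear characters of a group `P` of class two and centralizes `P'`, then
there are more linear characters trivial on `C_P(Q)` than characters of `P'`. -/
theorem card_lt_Ann [P.Normal] (o : Sol P) (c : P ≤ 𝐂 ⁅P, P⁆) (k : (♯Q).Coprime (♯P))
    (qc : Q ≤ 𝐂 ⁅P, P⁆) (nc : ¬ Q ≤ 𝐂 P) (h : ∀ θ, IsIrrCharacter P θ → θ 1 ≠ 1 →
      Q ≤ (NormalEmb.sub P).inertia θ) :
    ♯(⊤ : Subgroup ((⁅P, P⁆ : Subgroup G) →* ℂˣ)) < ♯(Ann P (P ⊓ 𝐂 Q)) := by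
  have nP : ∀ X : Subgroup G, X ≤ 𝐍 P := fun X => le_top.trans (normalIn_top.2 ‹_›).norm
  obtain ⟨a, ha, a1⟩ := SetLike.not_le_iff_exists.1 fun w => nc (cent_of_comm_le_cent (nP Q) k w)
  have aP := comm_le_left (nP Q) ha
  have l : ⁅P, P⁆ ≤ P ⊓ 𝐂 Q := le_inf (der_le P) (cent_symm qc)
  have t : ⁅P, Q⁆ ≤ 𝐂 (P ⊓ 𝐂 Q : Subgroup G) := comm_eq_bot.1 (le_bot_iff.1 (three_subgroup
    (by simp) (by simp) (by simp) (by rw [comm_eq_bot'.2 inf_le_right]; simp)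
      ((commutator_mono (commutator_mono inf_le_left le_rfl) le_rfl).trans (comm_eq_bot'.2 qc).le)))
  let Φ : ((⁅P, P⁆ : Subgroup G) →* ℂˣ) →* P →* ℂˣ := MonoidHom.compHom' (brk c ⟨a, aP⟩)
  have i : Function.Injective Φ := (injective_iff_map_eq_one Φ).2 fun μ e => by
    by_contra m
    obtain ⟨θ, x, y⟩ := CF.Clifford.exists_irr_over (inclusion (der_le P))
      (inclusion_injective _) (irr_linear μ)
    obtain ⟨t1, u⟩ := over_central c m x y
    have z : θ ⟨a, aP⟩ ≠ 0 := fun w => irr_one_ne_zero x (norm_eq_zero.1 (by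
      rw [← (mem_charCenter_iff (irr_isCharacter x)).1 ((mem_charCenter_iff_commutator x).2
        fun y => (mem_charKer_iff (irr_isCharacter x)).2 ((u (brk c ⟨a, aP⟩ y)).trans ?_)), w,
          norm_zero]
      rw [show μ (brk c ⟨a, aP⟩ y) = 1 from DFunLike.congr_fun e y, Units.val_one, one_mul]))
    refine a1 (cent_symm (cent_of_stable (k.coprime_dvd_right (card_dvd_of_le (der_le P)))
      (comm_centMod_le Q _) qc) ⟨norm_der P (nP _ (mem_top a)), fun g hg => ?_⟩)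
    by_contra w
    obtain ⟨β, -, b⟩ := exists_lin_ne le_rfl (x := ⟨a, aP⟩ * ((NormalEmb.sub P).c g ⟨a, aP⟩)⁻¹) (by
      simpa [NormalEmb.sub_c, commutatorElement_def, mul_assoc] using w)
    have h1 := (NormalEmb.sub P).mem_inertia'.1 (h _ x t1 hg) ⟨a, aP⟩
    have h2 := (NormalEmb.sub P).mem_inertia'.1 (h _ (irr_mul_linear x β) (by simpa using t1) hg) ⟨a, aP⟩
    rw [h1, mul_right_inj' z, Units.val_inj] at h2
    exact b (by rw [map_mul, map_inv, h2, mul_inv_cancel])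
  rw [card_top, Nat.card_congr (MonoidHom.ofInjective i).toEquiv]
  obtain ⟨β, x, y⟩ := exists_lin_ne l (x := ⟨a, aP⟩) fun w => a1 w.2
  refine card_lt (lt_of_le_of_ne ?_ fun w => y ?_)
  · rintro _ ⟨μ, rfl⟩ z hz
    change μ (brk c ⟨a, aP⟩ z) = 1
    rw [show brk c ⟨a, aP⟩ z = 1 from Subtype.ext (commutatorElement_eq_one_iff_mul_comm.2
      (t ha z hz).symm), map_one]
  · obtain ⟨μ, rfl⟩ : β ∈ Φ.range := w ▸ x
    change μ (brk c ⟨a, aP⟩ ⟨a, aP⟩) = 1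
    rw [show brk c ⟨a, aP⟩ ⟨a, aP⟩ = 1 from Subtype.ext (commutatorElement_self a), map_one]

theorem caseI (o : Group.IsSolvable G) (hp : p.Prime) (hq : q.Prime) (hr : r.Prime) (qp : q ≠ p)
    (rp : r ≠ p) (qr : q ≠ r) (aq : Act G q) (ar : Act G r) (e1 : NE G p q) (e2 : NE G p r)
    (e3 : NE G q r) [P.Normal] (sP : Syl p P ⊤) (m : MinN ⁅P, P⁆ ⊤) : False := by
  have nP : ∀ X : Subgroup G, X ≤ 𝐍 P := fun X => le_top.trans (normalIn_top.2 ‹_›).norm
  obtain ⟨H, sd, hH⟩ := sP.exists_compl (nP _)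
  have co := sd.coprime sP
  have kM := sP.pi.le (der_le P)
  have c : P ≤ 𝐂 ⁅P, P⁆ := m.cent_of_pi kM sP.pi (le_top.trans m.norm) (nP _)
  have ab := m.abelem_of_pi kM
  have E : ∀ μ : (⁅P, P⁆ : Subgroup G) →* ℂˣ, μ ≠ 1 → ∀ d ∈ 𝐜𝐝 ((Il _ μ).subgroupOf H),
      ∃ e ∈ 𝐜𝐝 G, p ∣ e ∧ ((Il _ μ).subgroupOf H).index * d ∣ e := fun μ m1 => by
    obtain ⟨θ, x, y, z⟩ := ((NormalEmb.sub ⁅P, P⁆).restrict P fun n => der_le P n.2
      ).exists_inv_over_of_comm (S := (Il _ μ).subgroupOf H)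
      (fun x hx => ⟨⟨x, mem_der_sub hx⟩, rfl⟩)
      ((NormalEmb.sub P).c.comp (H.subtype.comp (Subgroup.subtype _)))
      ((NormalEmb.sub ⁅P, P⁆).c.comp (H.subtype.comp (Subgroup.subtype _))) (fun _ _ => rfl)
      (by
        rw [NormalEmb.index_restrict_sub]
        exact (co.coprime_dvd_left (relIndex_dvd_card _ _)).coprime_dvd_right
          (card_subgroup_dvd_card _)) (irr_linear μ) fun s => congrFun s.2
    obtain ⟨t1, u⟩ := over_central c m1 x y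
    obtain ⟨t, ht, w⟩ := exists_cd x
    have : (Il _ μ).subgroupOf H = ((NormalEmb.sub P).inertia θ).subgroupOf H := by
      refine le_antisymm (fun g hg => funext (z ⟨g, hg⟩)) fun g hg => mem_Il.2 fun n => ?_
      have := (NormalEmb.sub P).mem_inertia'.1 hg ⟨n, der_le P n.2⟩
      rwa [u, show (NormalEmb.sub P).c (H.subtype g) ⟨n, der_le P n.2⟩ =
        ⟨(NormalEmb.sub ⁅P, P⁆).c g n, der_le P (Subtype.prop _)⟩ from rfl, u,
        mul_left_inj' (irr_one_ne_zero x), Units.val_inj] at this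
    rw [this]
    exact fun d hd => ⟨_, cop_mul sd co x w hd, ((dvd_of_pi hp sP.pi ht fun e => t1 (by
      simp [w, e])).mul_left _).mul_left _, by rw [← mul_assoc]; exact Dvd.intro _ rfl⟩
  have nc : ∀ {q Q}, q.Prime → q ≠ p → Act G q → Syl q Q H → H ≤ 𝐍 Q → Abel Q → ¬ Q ≤ 𝐂 P :=
    fun hq qp a s n b w => a.not_syl hq (s.syl_trans hH qp)
      (sd.sup ▸ sup_le (norm_of_cent (cent_symm w)) n) b
  have nA : ∀ {Q}, H ≤ 𝐍 Q → (P ⊔ Q).Normal := fun n => normalIn_top.1 ⟨le_top, sd.sup ▸ sup_le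
    (le_sup_left.trans (le_norm_self _)) (norm_sup (nP _) n)⟩
  have key : ∀ q r, q.Prime → r.Prime → q ≠ p → r ≠ p → Act G q → Act G r → NE G p q → NE G p r →
      NE G q r → Triv ⁅P, P⁆ H q → False := by
    rintro q r hq hr qp rp aq ar e1 e2 e3 ⟨Q, sQ, qc, nQ, aQ⟩
    have := nA nQ
    have cQ : (♯Q).Coprime (♯P) := co.symm.coprime_dvd_left (card_dvd_of_le sQ.le)
    have lt := card_lt_Ann inferInstance c cQ qc (nc hq qp aq sQ nQ aQ) fun θ x t1 => by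
      obtain ⟨t, ht, w⟩ := exists_cd x
      obtain ⟨d, hd, u⟩ := exists_inertia_dvd x w
      exact le_of_not_dvd (le_inertia_self x) (nP _) hq sQ.pi fun v => e1 d hd
        (((dvd_of_pi hp sP.pi ht fun e => t1 (by simp [w, e])).mul_left _).trans u)
        ((v.mul_right _).trans u)
    have nf : ∀ β ∈ Ann P (P ⊓ 𝐂 Q), β ≠ 1 → ¬ Q ≤ Il P β := fun β x y w =>
      y (eq_one_of_sup (comm_sup_inf_cent (nP _) cQ (.inr inferInstance)) (le_Il.1 w) x)
    have na : ∀ β : P →* ℂˣ, ¬ Q ≤ Il P β → NA H r β := fun β x => NA.of_mul e3 fun d hd =>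
      ⟨_, cop_mul sd co (irr_linear β) (t := 1) (by simp) hd, Dvd.dvd.mul_right (by
        rw [idx_sd sd (le_Il_self β)]
        by_contra w
        exact x (le_of_not_dvd (le_Il_self β) (nP _) hq sQ.pi w)) _, by rw [mul_one]⟩
    obtain ⟨R, sR⟩ := exists_syl r (⊤ : Subgroup H)
    have cW := NH.count (fun β x y => let ⟨X, x, _⟩ := (na β (nf β x y)).syl inferInstance hr
      ⟨X, x⟩) inferInstance (iv_Ann (norm_inf (nP _) (norm_cent nQ))) sR
    have cV := NH.count (W := ⊤) (fun μ _ y =>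
      let ⟨X, x, _⟩ := (NA.of_mul e2 (E μ y)).syl inferInstance hr
      ⟨X, x⟩) inferInstance iv_top sR
    obtain ⟨a, ha⟩ := card_pow hp (pgroup_lin hp kM) ⊤
    obtain ⟨b, hb⟩ := card_pow hp (pgroup_lin hp kM) (⊤ ⊓ Fx _ R)
    obtain ⟨c, hc⟩ := card_pow hp (pgroup_lin hp sP.pi) (Ann P (P ⊓ 𝐂 Q))
    obtain ⟨d, hd⟩ := card_pow hp (pgroup_lin hp sP.pi) (Ann P (P ⊓ 𝐂 Q) ⊓ Fx _ R)
    by_cases w : Fx ((⁅P, P⁆ : Subgroup G) →* ℂˣ) R = ⊤
    · obtain ⟨μ, -, m1⟩ := exists_lin_of_lt ab.abel (W := ⊥) (by simpa using m.ne_bot)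
      obtain ⟨x, -, y, z⟩ := triv_of o ab.abel hr (NA.of_mul e2 (E μ m1)) sR w
      have := nA y
      have f : ∀ β : P →* ℂˣ, ¬ Q ≤ Il P β → R.map H.subtype ≤ Il P β := fun β h =>
        le_of_not_dvd (le_Il_self β) (nP _) hr x.pi (by
          rw [← idx_sd sd (le_Il_self β), ← stab_sub]; exact (na β h).1)
      obtain ⟨⟨γ, g0⟩, g1⟩ := (ne_bot_iff_exists_ne_one (H := Ann P (P ⊓ 𝐂 Q))).1 fun w => by
        have := card_pos' (⊤ : Subgroup ((⁅P, P⁆ : Subgroup G) →* ℂˣ))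
        rw [w, card_bot] at lt
        omega
      refine nc hr rp ar x y z (cent_of_comm_le_Phi (nP _)
        (co.symm.coprime_dvd_left (card_dvd_of_le x.le)) (le_trans (fun g hg => ?_) sP.pi.der_le_Phi))
      by_contra v
      obtain ⟨β, -, b1⟩ := exists_lin_ne le_rfl (x := ⟨g, comm_le_left (nP _) hg⟩) v
      refine b1 (le_Il.1 ?_ hg)
      have g2 := nf γ g0 (by simpa using g1)
      by_cases b2 : Q ≤ Il P β
      · have := f (β * γ) fun w => g2 (mem_Fx_lin'.1 ((mul_mem_cancel_left (mem_Fx_lin'.2 b2)).1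
          (mem_Fx_lin'.2 w)))
        exact mem_Fx_lin'.1 ((mul_mem_cancel_right (mem_Fx_lin'.2 (f γ g2))).1 (mem_Fx_lin'.2 this))
      · exact f β b2
    · rw [ha, hc] at lt
      refine arith hp.two_le (ha ▸ hb ▸ cV) (hc ▸ hd ▸ cW) ?_ ((Nat.pow_lt_pow_iff_right hp.one_lt).1 lt)
      rw [← Nat.pow_lt_pow_iff_right hp.one_lt, ← ha, ← hb, top_inf_eq]
      exact card_lt (lt_top_iff_ne_top.2 w)
  exact (triv_or o hp ab m.ne_bot sd hq hr qr (fun μ y => NA.of_mul e1 (E μ y))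
    (fun μ y => NA.of_mul e2 (E μ y)) e3).elim (key q r hq hr qp rp aq ar e1 e2 e3)
      (key r q hr hq rp qp ar aq e2 e1 e3.symm)

theorem step (o : Group.IsSolvable G) (hp : p.Prime) (hq : q.Prime) (hr : r.Prime) (qp : q ≠ p)
    (rp : r ≠ p) (qr : q ≠ r) (ap : Act G p) (aq : Act G q) (ar : Act G r) (e1 : NE G p q)
    (e2 : NE G p r) (e3 : NE G q r) [M.Normal] (m : MinN M ⊤) : Act (G ⧸ M) p := by
  by_contra w
  obtain ⟨Y, x, y, z⟩ := ito inferInstance hp fun d a b => w ⟨d, a, b⟩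
  obtain ⟨P, sP⟩ := exists_syl p (⊤ : Subgroup G)
  have f := QuotientGroup.mk'_surjective M
  have nM : ∀ X : Subgroup G, X ≤ 𝐍 M := fun X => le_top.trans m.norm
  obtain rfl : P.map (QuotientGroup.mk' M) = Y := x.eq_of_normal (normalIn_top.2 y).norm
    (map_top_of_surjective _ f ▸ sP.map _)
  have nL : (M ⊔ P).Normal := by
    have := y.comap (QuotientGroup.mk' M)
    rwa [comap_map_eq, QuotientGroup.ker_mk', sup_comm] at this
  have nL' := normalIn_top.2 nL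
  have l := der_le_of_abel_map z
  obtain ⟨s, hs, ab⟩ := m.exists_abelem inferInstance
  by_cases sp : s = p
  · subst sp
    rw [sup_eq_right.2 (sP.le_of_normal (normalIn_top.2 ‹_›) ab.pi)] at nL nL'
    obtain w | w := m.eq_bot_or l (nL'.norm.trans (norm_der P))
    · exact ap.not_syl hp sP nL'.norm (der_eq_bot.1 w)
    · exact caseI o hp hq hr qp rp qr aq ar e1 e2 e3 sP (w ▸ m)
  have i := ab.pi.inf_eq_bot (sP.pi.of_single_ne (Ne.symm sp))
  have aP : Abel P := der_eq_bot.1 (eq_bot_mono i (le_inf l (der_le P)))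
  have sL := sP.of_le le_sup_right (le_top (a := M ⊔ P))
  have c : M ⊓ 𝐂 P = ⊥ := by
    obtain w | w := m.inf_eq_bot_or_le (norm_cent nL'.norm)
    · exact eq_bot_mono w (le_inf inf_le_left (le_cent_sup (inf_le_left.trans ab.abel) inf_le_right))
    · exact absurd aP (ap.not_syl hp sP (nL'.norm.trans (sL.norm_le_norm
        (sup_le (norm_of_cent (w.trans (cent_anti le_sup_right))) (le_norm_self P)))))
  have sd : SDProd M (𝐍 P) ⊤ := ⟨nM _, by
    have := sL.syl_frattini_sup nL'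
    rwa [top_inf_eq, sup_assoc, sup_eq_right.2 (le_norm_self P)] at this,
    by rw [inf_norm_eq_inf_cent (nM P) (inf_comm M P ▸ i), c]⟩
  have E : ∀ μ : M →* ℂˣ, μ ≠ 1 → ∀ d ∈ 𝐜𝐝 ((Il _ μ).subgroupOf (𝐍 P)),
      ∃ e ∈ 𝐜𝐝 G, p ∣ e ∧ ((Il _ μ).subgroupOf (𝐍 P)).index * d ∣ e := fun μ m1 d hd => by
    obtain ⟨β, x, y, z⟩ := sd_char sd (le_Il_self μ) hd
    obtain ⟨χ, u, -, v⟩ := sd_over sd μ x y z
    refine ⟨_, cd_of_irr u v, Dvd.dvd.mul_right ?_ _, by rw [idx_sd sd (le_Il_self μ)]⟩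
    by_contra w
    refine m1 (eq_one_of_sup (comm_sup_inf_cent (nM P) ((sP.pi.of_single_ne (Ne.symm sp)).coprime'
      ab.pi) (.inr inferInstance)) (le_Il.1 (le_of_not_dvd (le_Il_self μ) (nM P) hp sP.pi w)) ?_)
    rw [c, bot_subgroupOf]
    exact bot_le
  have key : ∀ q, q.Prime → Act G q → Triv M (𝐍 P) q → False := by
    rintro q hq aq ⟨Q, sQ, qc, nQ, aQ⟩
    have : (M ⊔ Q).Normal := normalIn_top.1 ⟨le_top, sd.sup ▸ sup_le
      (le_sup_left.trans (le_norm_self _)) (norm_sup (nM _) nQ)⟩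
    refine sQ.not_dvd hq ((aq.dvd (A := M ⊔ Q) (sup_le (le_cent_sup ab.abel (cent_symm qc))
      (le_cent_sup qc aQ))).trans ?_)
    rw [← idx_sd sd le_sup_left]
    exact relIndex_dvd_left _ le_sup_right
  exact (triv_or o hs ab m.ne_bot sd hq hr qr (fun μ y => NA.of_mul e1 (E μ y))
    (fun μ y => NA.of_mul e2 (E μ y)) e3).elim (key q hq aq) (key r hr ar)

theorem palfy (hp : p.Prime) (hq : q.Prime) (hr : r.Prime) (pq : p ≠ q) (qr : q ≠ r) (pr : p ≠ r)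
    (n : ℕ) : ∀ (G : Type u) [Group G] [Finite G], Nat.card G = n → Group.IsSolvable G →
      Act G p → Act G q → Act G r → NE G p q → NE G q r → NE G p r → False := by
  induction n using Nat.strong_induction_on with | _ n ih => ?_
  intro G _ _ e o ap aq ar e1 e2 e3
  obtain ⟨M, -, m⟩ := exists_minN (K := (⊤ : Subgroup G)) (A := ⊤) (fun w => by
    have := ap.dvd (A := ⊤) (w ▸ abel_bot)
    rw [index_top] at this
    exact hp.ne_one (Nat.dvd_one.1 this)) (le_norm_self _)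
  have := normalIn_top.1 ⟨le_top, m.norm⟩
  have f : ∀ {p q}, NE G p q → NE (G ⧸ M) p q := fun e d hd => e d (cd_quot M hd)
  exact ih _ (e ▸ Solv.card_quotient_lt m.ne_bot) (G ⧸ M) rfl inferInstance
    (step o hp hq hr pq.symm pr.symm qr ap aq ar e1 e3 e2 m)
    (step o hq hp hr pq qr.symm pr aq ap ar e1.symm e2 e3 m)
    (step o hr hp hq pr qr pq ar ap aq e3.symm e2.symm e1 m) (f e1) (f e2) (f e3)

end CF.Degs
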