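import Cfsg.Agent.Fgs2.Isa15
import Cfsg.Agent.Fgs2.Isa16

/-!
Solvable groups whose character degrees are squarefree have derived length at most four.
-/

set_option autoImplicit false

namespace CF.Degs

open Cfsg Subgroup CF.BG CF.Clifford CF.Char CF.Fgs2.Isa

attribute [local instance] Fintype.ofFinite

universe u

variable {G : Type u} [Group G] [Finite G] {d p q : ℕ} {A B H I Q V : Subgroup G}

theorem Kd.cd {θ : V → ℂ} (k : Kd V θ d) : d ∈ 𝐜𝐝 G :=
  let ⟨_, x, _, z⟩ := k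
  cd_of_irr x z

theorem exists_Il_dvd [V.Normal] (μ : V →* ℂˣ) : ∃ d ∈ 𝐜𝐝 G, (Il V μ).index ∣ d :=
  let ⟨d, k⟩ := exists_Kd (irr_linear μ)
  ⟨d, Kd.cd k, k.dvd'⟩

theorem le_Il_self [V.Normal] (μ : V →* ℂˣ) : V ≤ Il V μ := fun v hv =>
  (NormalEmb.sub V).ι_mem_inertia (irr_isClassFunction (irr_linear μ)) ⟨v, hv⟩

theorem relIndex_dvd_index [A.Normal] : I.relIndex A ∣ I.index := by
  rw [← relIndex_sup_norm (.inr (le_top.trans (normalIn_top.2 ‹A.Normal›).norm))]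
  exact relIndex_dvd_index_of_le le_sup_right

theorem relIndex_sup_of_le (l : V ≤ I) (n : Q ≤ 𝐍 V) : I.relIndex (V ⊔ Q) = I.relIndex Q := by
  have a := card_inf_mul_relIndex I (V ⊔ Q)
  have b := card_inf_mul_relIndex I Q
  rw [inf_comm, sup_inf_left l (.inr n)] at a
  have c := card_sup_mul_card_inf (H := V) (K := Q) (.inr n)
  have e := card_sup_mul_card_inf (H := V) (K := Q ⊓ I) (.inr (inf_le_left.trans n))
  rw [← inf_assoc, inf_right_comm, inf_eq_left.2 l] at e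
  rw [← a, ← b, inf_comm I] at c
  have : 0 < ♯V * ♯(Q ⊓ I) := Nat.mul_pos (card_pos' _) (card_pos' _)
  apply Nat.eq_of_mul_eq_mul_left this
  calc ♯V * ♯(Q ⊓ I) * I.relIndex (V ⊔ Q)
      = ♯(V ⊔ Q ⊓ I) * I.relIndex (V ⊔ Q) * ♯(V ⊓ Q) := by rw [← e]; ring
    _ = _ := by rw [c]; ring

theorem dvd_of_sqfree (h : PiNat {q} d) (s : Squarefree d) : d ∣ q := by
  obtain ⟨k, rfl⟩ := h.exists_pow s.ne_zero
  rcases k with _ | _ | k
  · simp
  · simp
  · have := s q ⟨q ^ k, by ring⟩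
    rw [Nat.isUnit_iff.1 this]
    simp

theorem der_le_of_dvd (hq : q.Prime) (k : Nil Q) (h : I.relIndex Q ∣ q) : ⁅Q, Q⁆ ≤ I := by
  obtain e | e := (Nat.dvd_prime hq).1 h
  · exact (der_le Q).trans (relIndex_eq_one.1 e)
  rw [← inf_relIndex_right] at e
  have l : I ⊓ Q < Q := lt_of_le_of_ne inf_le_right fun w => hq.ne_one (by rw [← e, w, relIndex_self])
  have m := k.lt_inf_norm l
  have n : Q ≤ 𝐍 (I ⊓ Q) := by
    have := relIndex_mul_relIndex _ _ _ m.le inf_le_left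
    rw [e] at this
    obtain w | w := (Nat.dvd_prime hq).1 (Dvd.intro_left _ this)
    · exact (relIndex_eq_one.1 w).trans inf_le_right
    · rw [w] at this
      exact absurd (relIndex_eq_one.1 (Nat.eq_of_mul_eq_mul_right hq.pos
        (this.trans (one_mul q).symm))) m.not_ge
  exact ((abel_qt_iff n).1 (cyc_of_prime (by rwa [card_qt n, e])).abel).trans inf_le_left

theorem le_cent_of_Il [V.Normal] (a : Abel V) (h : ∀ μ : V →* ℂˣ, B ≤ Il V μ) : B ≤ 𝐂 V := by
  refine comm_eq_bot'.1 (eq_bot_iff.2 ?_)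
  by_contra w
  obtain ⟨v, hv, hv'⟩ := SetLike.not_le_iff_exists.1 w
  have l : ⁅V, B⁆ ≤ V := comm_le_left (le_top.trans (normalIn_top.2 ‹V.Normal›).norm)
  obtain ⟨μ, -, x⟩ := exists_linear_of_not_mem_of_comm (G := V)
    (fun x y => Subtype.ext (a.mul_comm x.2 y.2)) ⊥ (g := ⟨v, l hv⟩) (by simpa using hv')
  exact x (le_Il.1 (h μ) hv)

theorem der_le_sup' (hK : V ⊴ H) (e : V ⊔ B = H) : ⁅H, H⁆ ≤ V ⊔ ⁅B, B⁆ := by
  have u : B ≤ 𝐍 V := (e ▸ le_sup_right : B ≤ H).trans hK.norm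
  rw [← qt_le_qt_iff ((der_le H).trans hK.norm) ((der_le B).trans u), qt_comm hK.norm hK.norm,
    qt_comm u u, ← e, qt_sup_left u]

/-- all degrees are squarefree -/
def SF (G : Type*) [Group G] : Prop := ∀ d ∈ 𝐜𝐝 G, Squarefree d

theorem SF.prim (s : SF G) (h : Prim V H p) (o : Sol H) : ⁅⁅H, H⁆, ⁅H, H⁆⁆ = ⊥ := by
  have := h.nrm
  have nV := h.minN.norm
  have c : ∀ q, q.Prime → Cyc (𝐎 {q} H) := fun q hq => by
    have k := O_pi {q} H
    have nA : (V ⊔ 𝐎 {q} H).Normal := normalIn_top.1 ⟨le_top, h.sd.sup ▸ sup_le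
      (le_sup_left.trans (le_norm_self _)) (norm_sup (le_top.trans nV) (O_normal _ _).norm)⟩
    have i : ∀ X, X ≤ 𝐎 {q} H → X ≤ V → X = ⊥ := fun X x y =>
      eq_bot_mono h.sd.inf (le_inf y (x.trans (O_le _ _)))
    by_cases qp : q = p
    · subst qp
      rw [i _ le_rfl (le_sup_right.trans (h.le_of_pi (h.ab.pi.sup k (.inr (le_top.trans nV)))))]
      exact inferInstance
    have r : ∀ μ : V →* ℂˣ, (Il V μ).relIndex (𝐎 {q} H) ∣ q := fun μ => by
      obtain ⟨d, x, y⟩ := exists_Il_dvd μ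
      refine dvd_of_sqfree (k.relIndex _) ((s d x).squarefree_of_dvd (Dvd.dvd.trans ?_ y))
      rw [← relIndex_sup_of_le (le_Il_self μ) (le_top.trans nV)]
      exact relIndex_dvd_index
    have a : Abel (𝐎 {q} H) := der_eq_bot.1 (i _ (der_le _)
      ((le_cent_of_Il h.ab.abel fun μ => der_le_of_dvd hq k.nil (r μ)).trans h.cent))
    obtain ⟨μ, x⟩ := exists_reg h.ab.abel a (PiNat.coprime' (k.of_single_ne qp) h.ab.pi)
    have := card_inf_mul_relIndex (Il V μ) (𝐎 {q} H)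
    rw [inf_comm, i _ inf_le_left (x.trans h.cent), card_bot, one_mul] at this
    obtain e | e := (Nat.dvd_prime hq).1 (this ▸ r μ)
    · rw [card_eq_one.1 e]
      exact inferInstance
    · exact cyc_of_prime (by rwa [e])
  have e : ⁅H, H⁆ ≤ 𝐂 (𝐅 H) := cent_symm (F_le_of_forall fun q hq _ =>
    cent_symm ((c q hq).der_le_cent (O_normal _ _).norm))
  exact der_eq_bot.2 (e.trans (cent_anti ((le_inf (der_le H) e).trans o.cent_F_le)))

theorem SF.nil [s : Group.IsSolvable G] (h : SF G) : Nil (derivedSeries G 2) := by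
  by_contra w
  obtain ⟨Z, _, V, H, p, k, -, -, n⟩ := exists_prim (inferInstance : Sol (derivedSeries G 2)) w
  have f := QuotientGroup.mk'_surjective Z
  have := k.nrm
  have nV := k.minN.norm
  rw [map_derivedSeries_eq f] at n
  refine n (k.ab.abel.nil.mono ?_)
  have a := der_le_sup' (normalIn_top.2 k.nrm) k.sd.sup
  have b := der_le_sup' (V := V) (B := ⁅H, H⁆) ⟨le_sup_left, le_top.trans nV⟩ rfl
  rw [SF.prim (fun d hd => h d (cd_quot Z hd)) k inferInstance, sup_bot_eq] at b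
  exact (commutator_mono a a).trans b

theorem SF.der2 (h : SF G) [A.Normal] (k : Nil A) : Abel ⁅A, A⁆ := by
  have nA := normalIn_top.2 ‹A.Normal›
  have c : ∀ q, q.Prime → Abel ⁅𝐎 {q} A, 𝐎 {q} A⁆ := fun q hq => by
    have := normalIn_top.1 (nA.O {q})
    refine abel_der_of_two' (m := q) fun d hd => (Nat.dvd_prime hq).1 ?_
    obtain ⟨k, -, x⟩ := exists_cd_mul hd
    exact dvd_of_sqfree ((O_pi {q} A).dvd (cd_dvd_card hd))
      ((h _ x).squarefree_of_dvd (Dvd.intro_left _ rfl))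
  by_contra w
  obtain ⟨q, hq, x⟩ := Nil.exists_not_abel (k.mono (der_le A)) w
  exact x ((c q hq).mono ((le_inf (k.O_mono_le (der_le A) _) (O_le _ _)).trans
    ((k.npc q).inf_der_le (k.hall_O _))))

theorem SF.der4 [s : Group.IsSolvable G] (h : SF G) : derivedSeries G 4 = ⊥ :=
  der_eq_bot.2 (h.der2 h.nil)

end CF.Degs
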